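import Groth.Agent.GalPtLib.Krull
import Groth.Agent.Pi1X.FEtFiberFunctor
import Mathlib.RingTheory.Etale.Field
import Mathlib.RingTheory.Unramified.Field
import Mathlib.CategoryTheory.Galois.IsFundamentalgroup
import Mathlib.FieldTheory.IsAlgClosed.AlgebraicClosure
import Mathlib.AlgebraicGeometry.Morphisms.Etale

/-!
The automorphism group of an algebraic closure is a fundamental group of the finite étale covers of
a field.
-/

universe u

open CategoryTheory CategoryTheory.Limits AlgebraicGeometry PreGaloisCategory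

namespace Groth.Agent.GalPtLib

noncomputable section

variable (K : Type u) [Field K]

local notation "Kbar" => AlgebraicClosure K

/-- The standard geometric point. -/
abbrev geomPt : Spec (CommRingCat.of Kbar) ⟶ Spec (CommRingCat.of K) :=
  Spec.map (CommRingCat.ofHom (algebraMap K (AlgebraicClosure K)))

variable {K}

instance isAffine_left (Y : FEt.Cat (Spec (CommRingCat.of K))) : IsAffine Y.left :=
  haveI : IsFinite Y.hom := Y.prop.1
  isAffine_of_isAffineHom (show Y.left ⟶ Spec (CommRingCat.of K) from Y.hom)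

/-- The algebra of a finite étale cover of a field. -/
def struct (Y : FEt.Cat (Spec (CommRingCat.of K))) : CommRingCat.of K ⟶ Γ(Y.left, ⊤) :=
  Spec.preimage (Y.left.isoSpec.inv ≫ Y.hom)

theorem struct_spec (Y : FEt.Cat (Spec (CommRingCat.of K))) :
    Spec.map (struct Y) = Y.left.isoSpec.inv ≫ Y.hom := Spec.map_preimage _

/-- The homomorphism attached to a geometric point. -/
def ptHom {Y : FEt.Cat (Spec (CommRingCat.of K))} (s : FEt.fiberObj (geomPt K) Y) :
    Γ(Y.left, ⊤) ⟶ CommRingCat.of Kbar :=
  Spec.preimage (s.1 ≫ Y.left.isoSpec.hom)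

theorem ptHom_spec {Y : FEt.Cat (Spec (CommRingCat.of K))} (s : FEt.fiberObj (geomPt K) Y) :
    Spec.map (ptHom s) = s.1 ≫ Y.left.isoSpec.hom := Spec.map_preimage _

theorem eq_spec_ptHom {Y : FEt.Cat (Spec (CommRingCat.of K))} (s : FEt.fiberObj (geomPt K) Y) :
    s.1 = Spec.map (ptHom s) ≫ Y.left.isoSpec.inv := by
  rw [ptHom_spec, Category.assoc, Iso.hom_inv_id, Category.comp_id]

theorem struct_ptHom {Y : FEt.Cat (Spec (CommRingCat.of K))} (s : FEt.fiberObj (geomPt K) Y) :
    struct Y ≫ ptHom s = CommRingCat.ofHom (algebraMap K Kbar) := by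
  apply Spec.map_injective
  rw [Spec.map_comp, ptHom_spec, struct_spec, Category.assoc, Iso.hom_inv_id_assoc]
  exact s.2

theorem struct_finite_etale (Y : FEt.Cat (Spec (CommRingCat.of K))) :
    (struct Y).hom.Finite ∧ (struct Y).hom.Etale := by
  haveI : IsFinite Y.hom := Y.prop.1
  haveI : Etale Y.hom := Y.prop.2
  haveI h1 : IsFinite (Spec.map (struct Y)) := by rw [struct_spec]; infer_instance
  haveI h2 : Etale (Spec.map (struct Y)) := by rw [struct_spec]; infer_instance
  exact ⟨(IsFinite.SpecMap_iff _).mp h1, (HasRingHomProperty.Spec_iff (P := @Etale)).mp h2⟩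

/-- The Galois action on geometric points. -/
def act (g : Kbar ≃ₐ[K] Kbar) {Y : FEt.Cat (Spec (CommRingCat.of K))}
    (s : FEt.fiberObj (geomPt K) Y) : FEt.fiberObj (geomPt K) Y :=
  ⟨Spec.map (CommRingCat.ofHom g.toAlgHom.toRingHom) ≫ s.1, by
    rw [Category.assoc, s.2, geomPt, ← Spec.map_comp, ← CommRingCat.ofHom_comp]
    exact congrArg (fun q => Spec.map (CommRingCat.ofHom q)) (RingHom.ext fun a => g.commutes a)⟩

instance mulActionFiber (Y : FEt.Cat (Spec (CommRingCat.of K))) :
    MulAction (Kbar ≃ₐ[K] Kbar) ((Pi1X.fiberFin (geomPt K)).obj Y) where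
  smul g s := act g s
  one_smul s := Subtype.ext (by
    show Spec.map (CommRingCat.ofHom (RingHom.id _)) ≫ s.1 = s.1
    rw [CommRingCat.ofHom_id, Spec.map_id, Category.id_comp])
  mul_smul g h s := Subtype.ext (by
    show Spec.map (CommRingCat.ofHom (g.toAlgHom.toRingHom.comp h.toAlgHom.toRingHom)) ≫ s.1 =
      Spec.map (CommRingCat.ofHom g.toAlgHom.toRingHom) ≫ Spec.map (CommRingCat.ofHom h.toAlgHom.toRingHom) ≫ s.1
    rw [CommRingCat.ofHom_comp, Spec.map_comp, Category.assoc])

theorem ptHom_act (g : Kbar ≃ₐ[K] Kbar) {Y : FEt.Cat (Spec (CommRingCat.of K))}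
    (s : FEt.fiberObj (geomPt K) Y) :
    ptHom (act g s) = ptHom s ≫ CommRingCat.ofHom g.toAlgHom.toRingHom := by
  apply Spec.map_injective
  rw [ptHom_spec, Spec.map_comp, ptHom_spec]
  exact Category.assoc _ _ _

theorem act_eq_self (g : Kbar ≃ₐ[K] Kbar) {Y : FEt.Cat (Spec (CommRingCat.of K))}
    (s : FEt.fiberObj (geomPt K) Y) (h : ∀ b, g ((ptHom s).hom b) = (ptHom s).hom b) : act g s = s := by
  refine Subtype.ext ?_
  rw [eq_spec_ptHom (act g s), ptHom_act, eq_spec_ptHom s]
  congr 2
  ext b
  exact h b

/-- The cover attached to a finite separable subextension. -/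
def fieldObj (E : IntermediateField K Kbar) [FiniteDimensional K E] [Algebra.IsSeparable K E] :
    FEt.Cat (Spec (CommRingCat.of K)) :=
  MorphismProperty.Over.mk ⊤ (Spec.map (CommRingCat.ofHom (algebraMap K E)))
    (show IsFinite _ ∧ Etale _ from ⟨(IsFinite.SpecMap_iff _).mpr
        (show (algebraMap K E).Finite from RingHom.finite_algebraMap.mpr inferInstance),
      (HasRingHomProperty.Spec_iff (P := @Etale)).mpr (by
        show (algebraMap K E).Etale
        rw [RingHom.etale_algebraMap]
        haveI : Algebra.FormallyEtale K E := Algebra.FormallyEtale.of_isSeparable K E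
        exact ⟨inferInstance, Algebra.FinitePresentation.of_finiteType.mp inferInstance⟩)⟩)

/-- The tautological point. -/
def fieldPt (E : IntermediateField K Kbar) [FiniteDimensional K E] [Algebra.IsSeparable K E] :
    FEt.fiberObj (geomPt K) (fieldObj E) :=
  ⟨Spec.map (CommRingCat.ofHom E.val.toRingHom), by
    show Spec.map _ ≫ Spec.map _ = _
    rw [← Spec.map_comp, ← CommRingCat.ofHom_comp]
    rfl⟩

instance (E : IntermediateField K Kbar) [FiniteDimensional K E] [Algebra.IsSeparable K E] :
    Nonempty ((Pi1X.fiberFin (geomPt K)).obj (fieldObj E)) := ⟨fieldPt E⟩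

/-- The field generated by the coordinates of a point. -/
theorem exists_field (Y : FEt.Cat (Spec (CommRingCat.of K))) (s : FEt.fiberObj (geomPt K) Y) :
    ∃ (E : IntermediateField K Kbar) (_ : FiniteDimensional K E) (_ : Algebra.IsSeparable K E),
      ∀ b, (ptHom s).hom b ∈ E := by
  letI : Algebra K Γ(Y.left, ⊤) := (struct Y).hom.toAlgebra
  obtain ⟨hfin, het⟩ := struct_finite_etale Y
  haveI : Module.Finite K Γ(Y.left, ⊤) := hfin
  haveI : Algebra.Etale K Γ(Y.left, ⊤) := het
  let φ : Γ(Y.left, ⊤) →ₐ[K] Kbar :=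
    { (ptHom s).hom with commutes' := fun a => congr($(struct_ptHom s).hom a) }
  haveI : Module.Finite K φ.range := Module.Finite.of_surjective φ.rangeRestrict.toLinearMap φ.rangeRestrict_surjective
  haveI : Algebra.FormallyUnramified K φ.range :=
    Algebra.FormallyUnramified.of_surjective φ.rangeRestrict φ.rangeRestrict_surjective
  let E : IntermediateField K Kbar :=
    { φ.range with
      inv_mem' := fun x hx => Subalgebra.inv_mem_of_algebraic _ (x := ⟨x, hx⟩) (Algebra.IsAlgebraic.isAlgebraic x) }
  haveI : FiniteDimensional K E := inferInstanceAs (Module.Finite K φ.range)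
  haveI : Algebra.FormallyUnramified K E := inferInstanceAs (Algebra.FormallyUnramified K φ.range)
  exact ⟨E, inferInstance, Algebra.FormallyUnramified.isSeparable K E, fun b => ⟨b, rfl⟩⟩

theorem isFundamentalGroup [CompactSpace (Kbar ≃ₐ[K] Kbar)]
    [GaloisCategory (FEt.Cat (Spec (CommRingCat.of K)))] :
    IsFundamentalGroup (Pi1X.fiberFin (geomPt K)) (Kbar ≃ₐ[K] Kbar) where
  naturality g X Y f x := Subtype.ext (Category.assoc _ _ _)
  transitive_of_isGalois X _ := by
    constructor
    intro s t
    obtain ⟨E, _, _, hE⟩ := exists_field X t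
    letI : Algebra K Γ(X.left, ⊤) := (struct X).hom.toAlgebra
    let r : Γ(X.left, ⊤) ⟶ CommRingCat.of E :=
      CommRingCat.ofHom ((ptHom t).hom.codRestrict E.toSubfield hE)
    have hr : r ≫ CommRingCat.ofHom E.val.toRingHom = ptHom t := rfl
    have hw : (Spec.map r ≫ X.left.isoSpec.inv) ≫ X.hom = (fieldObj E).hom := by
      rw [Category.assoc, ← struct_spec, ← Spec.map_comp]
      show Spec.map _ = Spec.map _
      congr 1
      ext a
      exact congrArg (fun q : CommRingCat.of K ⟶ CommRingCat.of Kbar => q.hom a) (struct_ptHom t)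
    let f : fieldObj E ⟶ X := MorphismProperty.Over.homMk (Spec.map r ≫ X.left.isoSpec.inv) hw
    obtain ⟨u, hu⟩ := surjective_of_nonempty_fiber_of_isConnected (Pi1X.fiberFin (geomPt K)) f s
    let χ : E →ₐ[K] Kbar :=
      { (Spec.preimage u.1).hom with
        commutes' := fun a => by
          have h : CommRingCat.ofHom (algebraMap K E) ≫ Spec.preimage u.1 = CommRingCat.ofHom (algebraMap K Kbar) := by
            apply Spec.map_injective
            rw [Spec.map_comp, Spec.map_preimage]
            exact u.2
          exact congr($(h).hom a) }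
    let g : Kbar ≃ₐ[K] Kbar := AlgEquiv.ofBijective (χ.liftNormal Kbar) (Algebra.IsAlgebraic.algHom_bijective _)
    have hg : CommRingCat.ofHom E.val.toRingHom ≫ CommRingCat.ofHom g.toAlgHom.toRingHom = Spec.preimage u.1 := by
      ext x
      exact χ.liftNormal_commutes Kbar x
    refine ⟨g⁻¹, ?_⟩
    have hgt : g • t = s := by
      refine Eq.trans (Subtype.ext ?_) hu
      show Spec.map _ ≫ t.1 = u.1 ≫ Spec.map r ≫ X.left.isoSpec.inv
      rw [eq_spec_ptHom t, ← hr, ← Spec.map_preimage u.1, ← hg, Spec.map_comp, Spec.map_comp]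
      exact (Category.assoc _ _ _).symm
    rw [← hgt, inv_smul_smul]
  continuous_smul X := by
    constructor
    rw [continuous_prod_of_discrete_right]
    intro s
    rw [continuous_discrete_rng]
    intro t
    rw [isOpen_iff_mem_nhds]
    intro g hg
    obtain ⟨E, _, _, hE⟩ := exists_field X s
    refine Filter.mem_of_superset (((IntermediateField.fixingSubgroup_isOpen E).preimage
      (continuous_const_mul g⁻¹)).mem_nhds (by simp [one_mem])) ?_
    intro h hh
    have h1 : (g⁻¹ * h) • s = s := act_eq_self _ _ fun b => (IntermediateField.mem_fixingSubgroup_iff _ _).mp hh _ (hE b)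
    show h • s = t
    rw [← show g • s = t from hg, show h = g * (g⁻¹ * h) by group, mul_smul, h1]
  non_trivial' g hg := by
    refine AlgEquiv.ext fun x => ?_
    obtain ⟨n, hn⟩ := exists_pow_separable K Kbar x
    refine fix_of_fix_pow K Kbar g x n ?_
    set y := x ^ ringExpChar K ^ n with hy
    haveI : FiniteDimensional K (IntermediateField.adjoin K {y}) :=
      IntermediateField.adjoin.finiteDimensional (Algebra.IsIntegral.isIntegral y)
    haveI : Algebra.IsSeparable K (IntermediateField.adjoin K {y}) :=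
      (IntermediateField.isSeparable_adjoin_simple_iff_isSeparable K Kbar).mpr hn
    have h := congrArg Subtype.val (hg (fieldObj (IntermediateField.adjoin K {y})) (fieldPt _))
    have h' := congr($(Spec.map_injective ((Spec.map_comp _ _).trans h)).hom
      ⟨y, IntermediateField.mem_adjoin_simple_self K y⟩)
    exact h'

end

end Groth.Agent.GalPtLib
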