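import Mathlib.FieldTheory.Galois.Profinite
import Mathlib.FieldTheory.AbsoluteGaloisGroup
import Mathlib.FieldTheory.PurelyInseparable.Basic
import Mathlib.FieldTheory.SeparableClosure

/-!
The automorphism group of an algebraic closure (of a possibly imperfect field) is compact for the
Krull topology.
-/

universe u v

namespace Groth.Agent.GalPtLib

variable (K : Type u) [Field K] (L : Type v) [Field L] [Algebra K L]

/-- Every element has a power, by a power of the characteristic exponent, which is separable. -/
theorem exists_pow_separable [Algebra.IsAlgebraic K L] (x : L) :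
    ∃ n : ℕ, IsSeparable K (x ^ (ringExpChar K) ^ n) := by
  haveI : ExpChar L (ringExpChar K) := expChar_of_injective_algebraMap (algebraMap K L).injective _
  haveI : ExpChar (separableClosure K L) (ringExpChar K) :=
    expChar_of_injective_algebraMap (algebraMap K (separableClosure K L)).injective _
  haveI : IsPurelyInseparable (separableClosure K L) L := separableClosure.isPurelyInseparable K L
  obtain ⟨n, y, hy⟩ := IsPurelyInseparable.pow_mem (separableClosure K L) (ringExpChar K) x
  exact ⟨n, hy ▸ mem_separableClosure_iff.mp y.2⟩

/-- An automorphism fixing a power of `x` by the characteristic exponent fixes `x`. -/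
theorem fix_of_fix_pow (g : L ≃ₐ[K] L) (x : L) (n : ℕ)
    (h : g (x ^ (ringExpChar K) ^ n) = x ^ (ringExpChar K) ^ n) : g x = x := by
  haveI : ExpChar L (ringExpChar K) := expChar_of_injective_algebraMap (algebraMap K L).injective _
  apply iterateFrobenius_inj L (ringExpChar K) n
  rw [iterateFrobenius_def, iterateFrobenius_def, ← map_pow, h]

variable [Normal K L]

instance normal_separableClosure : Normal K (separableClosure K L) := inferInstance

theorem restrict_bijective :
    Function.Bijective (AlgEquiv.restrictNormalHom (F := K) (K₁ := L) (separableClosure K L)) := by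
  refine ⟨?_, AlgEquiv.restrictNormalHom_surjective L⟩
  rw [← MonoidHom.ker_eq_bot_iff, eq_bot_iff]
  intro g hg
  rw [IntermediateField.restrictNormalHom_ker, IntermediateField.mem_fixingSubgroup_iff] at hg
  refine AlgEquiv.ext fun x => ?_
  obtain ⟨n, hn⟩ := exists_pow_separable K L x
  exact fix_of_fix_pow K L g x n (hg _ (mem_separableClosure_iff.mpr hn))

/-- The Krull topology on `L ≃ₐ[K] L` is compact, for a normal extension `L/K`. -/
theorem compactSpace : CompactSpace (L ≃ₐ[K] L) := by
  haveI : IsGalois K (separableClosure K L) := {}
  let e := MulEquiv.ofBijective _ (restrict_bijective K L)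
  have he : Continuous e := InfiniteGalois.restrictNormalHom_continuous (separableClosure K L)
  have hcont : Continuous e.symm := by
    refine continuous_of_continuousAt_one e.symm.toMonoidHom ?_
    rw [ContinuousAt, map_one, Filter.tendsto_def]
    intro s hs
    obtain ⟨E, hE, hEs⟩ := (krullTopology_mem_nhds_one_iff K L s).mp hs
    let E' : IntermediateField K (separableClosure K L) := E.comap (separableClosure K L).val
    haveI : FiniteDimensional K E' := by
      haveI := hE
      refine Module.Finite.of_injective
        ({ toFun := fun x => (⟨((x : separableClosure K L) : L), x.2⟩ : E)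
           map_add' := fun _ _ => rfl
           map_smul' := fun _ _ => rfl } : E' →ₗ[K] E) ?_
      intro x y h
      exact Subtype.ext (Subtype.ext (congrArg (fun z : E => (z : L)) h))
    refine (krullTopology_mem_nhds_one_iff K (separableClosure K L) _).mpr ⟨E', inferInstance, fun σ hσ => ?_⟩
    refine hEs ((IntermediateField.mem_fixingSubgroup_iff _ _).mpr fun x hx => ?_)
    obtain ⟨n, hn⟩ := exists_pow_separable K L x
    refine fix_of_fix_pow K L _ x n ?_
    let z : separableClosure K L := ⟨_, mem_separableClosure_iff.mpr hn⟩
    have hz : σ z = z := (IntermediateField.mem_fixingSubgroup_iff _ _).mp hσ z (pow_mem hx _)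
    have h1 := AlgEquiv.restrictNormal_commutes (e.symm σ) (separableClosure K L) z
    have h2 : (e.symm σ).restrictNormal (separableClosure K L) = σ := e.apply_symm_apply σ
    rw [h2, hz] at h1
    exact h1.symm
  let h : (L ≃ₐ[K] L) ≃ₜ (separableClosure K L ≃ₐ[K] separableClosure K L) :=
    { toEquiv := e.toEquiv, continuous_toFun := he, continuous_invFun := hcont }
  exact h.symm.compactSpace

end Groth.Agent.GalPtLib
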